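import Mathlib
import Cfsg.Prelude.Def_FusionSystem
import Cfsg.Agent.Lead.FusionExtT

set_option autoImplicit false

/-!
# A homomorphism killing a strongly closed subgroup is fusion preserving (helper8, for S5202)

`F` saturated over `S`, `T` strongly closed in `F`, `θ : S →* Q` a homomorphism with `T ≤ ker θ`
such that every map of `F` whose source contains `T` is `θ`-compatible (`θ (φ x) = q θ(x) q⁻¹` for a
fixed `q`).  Then every map of `F` is `θ`-compatible; if moreover `Q` is a `p`-group, the hyperfocal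
subgroup of `F` lies in `ker θ`.

Application: `θ (s) = (conjugation by s on T) K` in `Aut_F(T) / K` for a normal subgroup `K` of
`Aut_F(T)` containing `Inn(T)`; if `Aut_F(T) / K` is a `p`-group then
`hyp(F) ≤ S₁ = {s ∈ S : c_s|T ∈ K}`.
-/

namespace Cfsg.Agent.HFP

open Cfsg Cfsg.FusionSystem Cfsg.Agent.Lead
open scoped Pointwise

variable {Ω : Type*} [Group Ω] {S : Subgroup Ω}

/-- The map `φ : P → Ω` is compatible with `θ : S → Q`: for one `q`, `θ (φ x) = q θ(x) q⁻¹`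
for all `x ∈ P`. -/
def hfpCompat {Q : Type*} [Group Q] (θ : S →* Q) (P : Subgroup Ω) (φ : P →* Ω) : Prop :=
  ∃ q : Q, ∀ (x : P) (hx : (x : Ω) ∈ S) (hφx : φ x ∈ S),
    θ ⟨φ x, hφx⟩ = q * θ ⟨(x : Ω), hx⟩ * q⁻¹

theorem hfpCompat_conj {Q : Type*} [Group Q] (θ : S →* Q) (P : Subgroup Ω) (g : Ω) (hg : g ∈ S) :
    hfpCompat θ P (conjHom P g) := by
  refine ⟨θ ⟨g, hg⟩, fun x hx hφx => ?_⟩
  have h1 : (⟨conjHom P g x, hφx⟩ : S) = ⟨g, hg⟩ * ⟨(x : Ω), hx⟩ * (⟨g, hg⟩ : S)⁻¹ :=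
    Subtype.ext rfl
  rw [h1, map_mul, map_mul, map_inv]

theorem hfpCompat_comp {Q : Type*} [Group Q] (θ : S →* Q) (F : FusionSystem S)
    {P R : Subgroup Ω} {φ : P →* Ω} {ψ : R →* Ω} (h : ∀ x : P, φ x ∈ R) (hφ : φ ∈ F.Hom P)
    (h1 : hfpCompat θ P φ) (h2 : hfpCompat θ R ψ) :
    hfpCompat θ P (ψ.comp (φ.codRestrict R h)) := by
  obtain ⟨q1, hq1⟩ := h1
  obtain ⟨q2, hq2⟩ := h2
  refine ⟨q2 * q1, fun x hx hφx => ?_⟩
  have hφS : φ x ∈ S := (F.le_of_mem hφ).2 x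
  have e1 := hq1 x hx hφS
  have e2 := hq2 ⟨φ x, h x⟩ hφS hφx
  have e3 : θ ⟨(ψ.comp (φ.codRestrict R h)) x, hφx⟩ = θ ⟨ψ ⟨φ x, h x⟩, hφx⟩ := rfl
  rw [e3, e2, e1]
  group

theorem hfpCompat_inv {Q : Type*} [Group Q] (θ : S →* Q) (F : FusionSystem S)
    {P : Subgroup Ω} {φ : P →* Ω} (hφ : φ ∈ F.Hom P) (h1 : hfpCompat θ P φ)
    (ψ : φ.range →* Ω) (hinv : ∀ x : P, ψ ⟨φ x, ⟨x, rfl⟩⟩ = (x : Ω)) :
    hfpCompat θ φ.range ψ := by
  obtain ⟨q, hq⟩ := h1
  refine ⟨q⁻¹, ?_⟩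
  rintro ⟨_, x, rfl⟩ hy hψy
  have hxS : (x : Ω) ∈ S := (F.le_of_mem hφ).1 x.2
  have e := hq x hxS hy
  have h2 : (⟨ψ ⟨φ x, ⟨x, rfl⟩⟩, hψy⟩ : S) = ⟨(x : Ω), hxS⟩ := Subtype.ext (hinv x)
  rw [h2]
  have e' : θ ⟨(⟨φ x, ⟨x, rfl⟩⟩ : φ.range), hy⟩ = q * θ ⟨(x : Ω), hxS⟩ * q⁻¹ := e
  rw [e']
  group

/-- The general statement: compatibility on the maps whose source contains `T` gives compatibility
of all maps. -/
theorem hfp_compat_all [Finite S] (p : ℕ) [Fact p.Prime] (hS : IsPGroup p S)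
    (F : FusionSystem S) (hF : F.IsSaturated p) {T : Subgroup Ω} (hT : F.StronglyClosed T)
    {Q : Type*} [Group Q] (θ : S →* Q) (hker : ∀ t : S, (t : Ω) ∈ T → θ t = 1)
    (hbig : ∀ (P : Subgroup Ω) (φ : P →* Ω), φ ∈ F.Hom P → T ≤ P → hfpCompat θ P φ)
    {P : Subgroup Ω} {φ : P →* Ω} (hφ : φ ∈ F.Hom P) : hfpCompat θ P φ := by
  have hTS := hT.1
  have hTn := Fusion.le_normalizer_of_stronglyClosed F hT
  refine Fusion.pred_of_alperin_ind p hS F hF (hfpCompat θ) ?_ ?_ ?_ ?_ hφ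
  · intro P g _ hg
    exact hfpCompat_conj θ P g hg
  · intro P R φ ψ h hφ _ h1 h2
    exact hfpCompat_comp θ F h hφ h1 h2
  · intro P φ ψ hφ h1 _ hinv
    exact hfpCompat_inv θ F hφ h1 ψ hinv
  intro P hP ih α hα
  have hPS : P ≤ S := by
    rcases hP with rfl | hess
    · exact le_rfl
    · exact hess.1.1
  have hαF := (Fusion.mem_autGroup_iff F hPS α).mp hα
  by_cases hTP : T ≤ P
  · exact hbig P _ hαF hTP
  have hPne : P ≠ S := by
    rintro rfl
    exact hTP hTS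
  have hess : F.IsEssential p P := by
    rcases hP with h | h
    · exact absurd h hPne
    · exact h
  have : Finite P := Fusion.finite_of_le hPS
  have : Finite (MulAut P) := inferInstance
  obtain ⟨hfc, hfa⟩ := Fusion.fullyCentralized_fullyAutomized_of_fullyNormalized p hS F hF hess.2.1
  have hrec := Fusion.receptive_of_fullyCentralized p hS F hF hfc
  -- the kernel `K` of the action on `P / (P ∩ T)`
  set QsN : ℕ → Subgroup Ω := fun i => if i = 0 then T else ⊤ with hQsN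
  have hQsN0 : QsN 0 = T := by simp [hQsN]
  have hQsNtop : ∀ i, 1 ≤ i → QsN i = ⊤ := by
    intro i hi
    have h0 : i ≠ 0 := by omega
    simp [hQsN, h0]
  have hinvQ : ∀ i, ∀ α ∈ F.autGroup P, ∀ x : P, (x : Ω) ∈ QsN i → ((α x : P) : Ω) ∈ QsN i := by
    intro i α hα x hx
    rcases Nat.eq_zero_or_pos i with hi | hi
    · subst hi
      rw [hQsN0] at hx ⊢
      exact Fusion.aut_mem_of_stronglyClosed F hPS hT α hα x hx
    · rw [hQsNtop i hi]; trivial
  set K := Fusion.stabSubgroup F P QsN hinvQ with hK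
  have hKmem : ∀ κ : MulAut P, κ ∈ K ↔ κ ∈ F.autGroup P ∧ ∀ x : P, (x : Ω)⁻¹ * ((κ x : P) : Ω) ∈ T := by
    intro κ
    constructor
    · rintro ⟨h1, h2⟩
      refine ⟨h1, fun x => ?_⟩
      have := h2 0 x (by rw [hQsNtop 1 le_rfl]; trivial)
      rwa [hQsN0] at this
    · rintro ⟨h1, h2⟩
      refine ⟨h1, fun i x _ => ?_⟩
      rcases Nat.eq_zero_or_pos i with hi | hi
      · subst hi
        rw [hQsN0]
        exact h2 x
      · rw [hQsNtop i hi]; trivial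
  have hKA : K ≤ F.autGroup P := fun κ hκ => hκ.1
  have hAK : F.autGroup P ≤ Subgroup.normalizer (K : Set (MulAut P)) := by
    intro β hβ
    apply mem_normalizer_of_conj_mem_of_finite
    intro κ hκ
    exact Fusion.stabSet_conj F P QsN hinvQ hβ hκ
  have hUA : autInducedBy S P ≤ F.autGroup P := Fusion.autInducedBy_le_autGroup F hPS
  have hUp : IsPGroup p (autInducedBy S P) := Fusion.isPGroup_autInducedBy p hS P
  have hcardU : Nat.card (autInducedBy S P) = p ^ (Nat.card (F.autGroup P)).factorization p :=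
    (exists_sylow_eq_subgroupOf_iff (F.autGroup P) (autInducedBy S P) hUA).mp hfa.2
  have hcardUK : Nat.card ↥(autInducedBy S P ⊓ K) = p ^ (Nat.card K).factorization p :=
    card_inf_eq_ppart_of_normal hUA hKA hAK hUp hcardU
  -- Frattini argument
  have hconjK : (autInducedBy S P ⊓ K).map (MulAut.conj α).toMonoidHom ≤ K := by
    rintro _ ⟨u, hu, rfl⟩
    exact Fusion.stabSet_conj F P QsN hinvQ hα hu.2
  obtain ⟨κ, hκ, hκU⟩ := exists_conj_le_of_card_eq_ppart (inf_le_right : autInducedBy S P ⊓ K ≤ K)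
    hcardUK hconjK ((hUp.to_le inf_le_left).map (MulAut.conj α).toMonoidHom)
  set γ := κ * α with hγ
  have hγA : γ ∈ F.autGroup P := Subgroup.mul_mem _ (hKA hκ) hα
  have hnorm : ∀ u ∈ autInducedBy S P ⊓ K, γ * u * γ⁻¹ ∈ autInducedBy S P ⊓ K := by
    intro u hu
    have : γ * u * γ⁻¹ = (MulAut.conj κ).toMonoidHom ((MulAut.conj α).toMonoidHom u) := by
      show γ * u * γ⁻¹ = κ * (α * u * α⁻¹) * κ⁻¹
      rw [hγ]
      group
    rw [this]
    exact hκU ⟨_, ⟨u, hu, rfl⟩, rfl⟩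
  -- compatibility of `κ⁻¹` (with `q = 1`)
  have hκinv : κ⁻¹ ∈ K := Subgroup.inv_mem _ hκ
  have hCκ : hfpCompat θ P (P.subtype.comp (κ⁻¹ : MulAut P).toMonoidHom) := by
    refine ⟨1, fun x hx hφx => ?_⟩
    have h1 : (x : Ω)⁻¹ * (((κ⁻¹ : MulAut P) x : P) : Ω) ∈ T := ((hKmem _).mp hκinv).2 x
    have h2 : (⟨(P.subtype.comp (κ⁻¹ : MulAut P).toMonoidHom) x, hφx⟩ : S) =
        ⟨(x : Ω), hx⟩ * ⟨(x : Ω)⁻¹ * (((κ⁻¹ : MulAut P) x : P) : Ω), hTS h1⟩ := by
      apply Subtype.ext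
      show (((κ⁻¹ : MulAut P) x : P) : Ω) = (x : Ω) * ((x : Ω)⁻¹ * (((κ⁻¹ : MulAut P) x : P) : Ω))
      group
    rw [h2, map_mul,
      hker ⟨(x : Ω)⁻¹ * (((κ⁻¹ : MulAut P) x : P) : Ω), hTS h1⟩ h1]
    group
  -- compatibility of `γ`
  have hCγ : hfpCompat θ P (P.subtype.comp γ.toMonoidHom) := by
    have hγF := (Fusion.mem_autGroup_iff F hPS γ).mp hγA
    have hr : (P.subtype.comp γ.toMonoidHom).range = P := by
      ext y
      constructor
      · rintro ⟨x, rfl⟩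
        exact (γ x).2
      · intro hy
        refine ⟨γ.symm ⟨y, hy⟩, ?_⟩
        show ((γ (γ.symm ⟨y, hy⟩) : P) : Ω) = y
        rw [MulEquiv.apply_symm_apply]
    obtain ⟨ψ, hψ, hψext⟩ := hrec.2 P _ hγF hr
    set P₁ := P ⊔ (T ⊓ Subgroup.normalizer (P : Set Ω)) with hP₁
    have hP₁ext : P₁ ≤ extender S P (P.subtype.comp γ.toMonoidHom) := by
      apply sup_le
      · exact Fusion.le_extender P hPS _ (fun x => hPS (γ x).2)
      · intro g hg
        obtain ⟨hgT, hgN⟩ := Subgroup.mem_inf.mp hg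
        apply Subgroup.subset_closure
        have hcU : conjAutHom P ⟨g, hgN⟩ ∈ autInducedBy S P :=
          Fusion.conjAutHom_mem_autInducedBy P _ (hTS hgT)
        have hcK : conjAutHom P ⟨g, hgN⟩ ∈ K := by
          rw [hKmem]
          refine ⟨hUA hcU, fun x => ?_⟩
          show (x : Ω)⁻¹ * (g * (x : Ω) * g⁻¹) ∈ T
          have hxN : (x : Ω)⁻¹ ∈ Subgroup.normalizer (T : Set Ω) :=
            Subgroup.inv_mem _ (hTn (hPS x.2))
          have h1 := (Subgroup.mem_normalizer_iff.mp hxN g).mp hgT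
          rw [inv_inv] at h1
          have h2 : (x : Ω)⁻¹ * (g * (x : Ω) * g⁻¹) = (x : Ω)⁻¹ * g * (x : Ω) * g⁻¹ := by group
          rw [h2]
          exact T.mul_mem h1 (T.inv_mem hgT)
        have h3 : γ * conjAutHom P ⟨g, hgN⟩ * γ⁻¹ ∈ autInducedBy S P :=
          (Subgroup.mem_inf.mp (hnorm _ (Subgroup.mem_inf.mpr ⟨hcU, hcK⟩))).1
        rw [mem_autInducedBy_iff] at h3
        obtain ⟨h, hhS, hh⟩ := h3
        refine ⟨hTS hgT, hgN, h, hhS, fun x hx => ?_⟩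
        have h4 := hh (γ x)
        show ((γ ⟨g * (x : Ω) * g⁻¹, hx⟩ : P) : Ω) = h * ((γ x : P) : Ω) * h⁻¹
        rw [← h4, MulAut.mul_apply, MulAut.mul_apply, MulAut.inv_apply_self]
        rfl
    have hPP₁ : P ≤ P₁ := le_sup_left
    have hχ₁ := Fusion.restrict_mem F hψ hP₁ext
    -- `P < P₁`
    have hlt : Nat.card P < Nat.card P₁ := by
      have hPTS : P ⊔ T ≤ S := sup_le hPS hTS
      have : Finite ↥(P ⊔ T) := Fusion.finite_of_le hPTS
      have hne : P ≠ P ⊔ T := by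
        intro h
        apply hTP
        rw [h]
        exact le_sup_right
      obtain ⟨n, hn, hnP⟩ := Fusion.exists_mem_normalizerIn_not_mem (S := P ⊔ T) (hS.to_le hPTS)
        (le_sup_left : P ≤ P ⊔ T) hne
      obtain ⟨hnPT, hnN⟩ := Subgroup.mem_inf.mp hn
      have hmul := Subgroup.coe_mul_of_left_le_normalizer_right P T (hPS.trans hTn)
      have hn' : n ∈ ((P ⊔ T : Subgroup Ω) : Set Ω) := hnPT
      rw [hmul] at hn'
      obtain ⟨x, hx, t, ht, rfl⟩ := hn'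
      have htN : t ∈ Subgroup.normalizer (P : Set Ω) := by
        have : t = x⁻¹ * (x * t) := by group
        rw [this]
        exact Subgroup.mul_mem _ (Subgroup.inv_mem _ (Subgroup.le_normalizer hx)) hnN
      have htP : t ∉ P := by
        intro htP
        exact hnP (P.mul_mem hx htP)
      have hP₁S : P₁ ≤ S := sup_le hPS (inf_le_left.trans hTS)
      have : Finite P₁ := Fusion.finite_of_le hP₁S
      apply card_lt_of_lt
      refine lt_of_le_of_ne hPP₁ ?_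
      intro h
      apply htP
      rw [h]
      exact (le_sup_right : T ⊓ Subgroup.normalizer (P : Set Ω) ≤ P₁) (Subgroup.mem_inf.mpr ⟨ht, htN⟩)
    obtain ⟨q, hq⟩ := ih P₁ _ hχ₁ hlt
    refine ⟨q, fun x hx hφx => ?_⟩
    have h7 : (ψ.comp (Subgroup.inclusion hP₁ext)) ⟨x.1, hPP₁ x.2⟩ =
        (P.subtype.comp γ.toMonoidHom) x := hψext x.1 x.2 _
    have h8 := hq ⟨x.1, hPP₁ x.2⟩ hx (by rw [h7]; exact hφx)
    have h9 : (⟨(ψ.comp (Subgroup.inclusion hP₁ext)) ⟨x.1, hPP₁ x.2⟩, by rw [h7]; exact hφx⟩ : S) =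
        ⟨(P.subtype.comp γ.toMonoidHom) x, hφx⟩ := Subtype.ext h7
    rw [h9] at h8
    exact h8
  -- compose
  have hcomp := hfpCompat_comp θ F (P := P) (R := P) (φ := P.subtype.comp γ.toMonoidHom)
    (ψ := P.subtype.comp (κ⁻¹ : MulAut P).toMonoidHom) (fun x => (γ x).2)
    ((Fusion.mem_autGroup_iff F hPS γ).mp hγA) hCγ hCκ
  have heq : (P.subtype.comp (κ⁻¹ : MulAut P).toMonoidHom).comp
      ((P.subtype.comp γ.toMonoidHom).codRestrict P (fun x => (γ x).2)) =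
      P.subtype.comp α.toMonoidHom := by
    ext x
    show (((κ⁻¹ : MulAut P) (γ x) : P) : Ω) = ((α x : P) : Ω)
    rw [hγ, MulAut.mul_apply, MulAut.inv_apply_self]
  rw [heq] at hcomp
  exact hcomp

/-- In a `p`-group, an element whose `m`-th power (`m` prime to `p`) centralizes a set centralizes
it. -/
theorem hfp_mem_centralizer_of_pow {Q : Type*} [Group Q] (p : ℕ) [Fact p.Prime] (hQ : IsPGroup p Q)
    (X : Set Q) (q : Q) (m : ℕ) (hm : m.Coprime p) (h : q ^ m ∈ Subgroup.centralizer X) :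
    q ∈ Subgroup.centralizer X := by
  obtain ⟨k, hk⟩ := hQ q
  have hcop : Nat.Coprime m (p ^ k) := hm.pow_right k
  -- Bezout
  obtain ⟨n, hn⟩ : ∃ n : ℕ, n = p ^ k := ⟨_, rfl⟩
  rw [← hn] at hk hcop
  have hb : (m : ℤ) * Int.gcdA m n + (n : ℤ) * Int.gcdB m n = 1 := by
    have h1 := Int.gcd_eq_gcd_ab (m : ℤ) (n : ℤ)
    rw [Int.gcd_natCast_natCast, hcop, Nat.cast_one] at h1
    exact h1.symm
  have hq : q = (q ^ m) ^ (Int.gcdA m n) := by
    have h1 : q ^ ((m : ℤ) * Int.gcdA m n + (n : ℤ) * Int.gcdB m n) = q := by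
      rw [hb, zpow_one]
    rw [zpow_add, zpow_mul, zpow_mul, zpow_natCast, zpow_natCast, hk, one_zpow, mul_one] at h1
    exact h1.symm
  rw [hq]
  exact Subgroup.zpow_mem _ h _

/-- If `Q` is a `p`-group, the hyperfocal subgroup lies in the kernel of `θ`. -/
theorem hfp_hyperfocal_le_ker [Finite S] (p : ℕ) [Fact p.Prime] (hS : IsPGroup p S)
    (F : FusionSystem S) (hF : F.IsSaturated p) {T : Subgroup Ω} (hT : F.StronglyClosed T)
    {Q : Type*} [Group Q] (hQ : IsPGroup p Q) (θ : S →* Q)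
    (hker : ∀ t : S, (t : Ω) ∈ T → θ t = 1)
    (hbig : ∀ (P : Subgroup Ω) (φ : P →* Ω), φ ∈ F.Hom P → T ≤ P → hfpCompat θ P φ) :
    F.hyperfocalSubgroup p ≤ θ.ker.map S.subtype := by
  unfold FusionSystem.hyperfocalSubgroup
  rw [Subgroup.closure_le]
  rintro y ⟨P, α, x, hPS, hα, rfl⟩
  have : Finite P := Fusion.finite_of_le hPS
  -- the subgroup of `Aut_F(P)` acting trivially through `θ`
  let B : Subgroup ↥(F.autGroup P) :=
    { carrier := {β | ∀ x : P, θ ⟨(((β : MulAut P) x : P) : Ω), hPS ((β : MulAut P) x).2⟩ =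
        θ ⟨(x : Ω), hPS x.2⟩}
      one_mem' := fun x => rfl
      mul_mem' := by
        intro β₁ β₂ h1 h2 x
        have e1 := h1 ((β₂ : MulAut P) x)
        have e2 := h2 x
        rw [← e2, ← e1]
        rfl
      inv_mem' := by
        intro β h1 x
        have e1 := h1 (((β⁻¹ : ↥(F.autGroup P)) : MulAut P) x)
        rw [← e1]
        congr 2
        show (((β : MulAut P) ((β : MulAut P)⁻¹ x) : P) : Ω) = x
        rw [MulAut.apply_inv_self] }
  have hres : pResidual p ↥(F.autGroup P) ≤ B := by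
    unfold pResidual
    rw [Subgroup.closure_le]
    intro β hβ
    have hcop : (orderOf β).Coprime p := hβ
    have hβF := (Fusion.mem_autGroup_iff F hPS (β : MulAut P)).mp β.2
    obtain ⟨q, hq⟩ := hfp_compat_all p hS F hF hT θ hker hbig hβF
    have hq' : ∀ x : P, θ ⟨((((β : MulAut P) x : P)) : Ω), hPS ((β : MulAut P) x).2⟩ =
        q * θ ⟨(x : Ω), hPS x.2⟩ * q⁻¹ := fun x => hq x (hPS x.2) (hPS ((β : MulAut P) x).2)
    -- powers
    have hpow : ∀ (j : ℕ) (x : P),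
        θ ⟨((((β : MulAut P) ^ j) x : P) : Ω), hPS (((β : MulAut P) ^ j) x).2⟩ =
          q ^ j * θ ⟨(x : Ω), hPS x.2⟩ * (q ^ j)⁻¹ := by
      intro j
      induction j with
      | zero => intro x; simp
      | succ j ih =>
        intro x
        have e1 : (((β : MulAut P) ^ (j + 1)) x : P) = (β : MulAut P) (((β : MulAut P) ^ j) x) := by
          rw [pow_succ', MulAut.mul_apply]
        have e2 := hq' (((β : MulAut P) ^ j) x)
        have e3 : θ ⟨((((β : MulAut P) ^ (j + 1)) x : P) : Ω),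
            hPS (((β : MulAut P) ^ (j + 1)) x).2⟩ =
            θ ⟨((((β : MulAut P) (((β : MulAut P) ^ j) x)) : P) : Ω),
              hPS ((β : MulAut P) (((β : MulAut P) ^ j) x)).2⟩ := by
          congr 2
          rw [e1]
        rw [e3, e2, ih x, pow_succ']
        group
    have hord : (β : MulAut P) ^ orderOf β = 1 := by
      rw [← Subgroup.coe_pow, pow_orderOf_eq_one]
      rfl
    have hcent : q ^ orderOf β ∈ Subgroup.centralizer
        (Set.range fun x : P => θ ⟨(x : Ω), hPS x.2⟩) := by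
      rw [Subgroup.mem_centralizer_iff]
      rintro _ ⟨x, rfl⟩
      have e := hpow (orderOf β) x
      rw [hord] at e
      have e' : θ ⟨(x : Ω), hPS x.2⟩ =
          q ^ orderOf β * θ ⟨(x : Ω), hPS x.2⟩ * (q ^ orderOf β)⁻¹ := e
      calc θ ⟨(x : Ω), hPS x.2⟩ * q ^ orderOf β
          = (q ^ orderOf β * θ ⟨(x : Ω), hPS x.2⟩ * (q ^ orderOf β)⁻¹) * q ^ orderOf β := by
            rw [← e']
        _ = q ^ orderOf β * θ ⟨(x : Ω), hPS x.2⟩ := by group
    have hqc := hfp_mem_centralizer_of_pow p hQ _ q (orderOf β) hcop hcent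
    intro x
    show θ ⟨(((β : MulAut P) x : P) : Ω), hPS ((β : MulAut P) x).2⟩ = θ ⟨(x : Ω), hPS x.2⟩
    rw [hq' x]
    have hc := (Subgroup.mem_centralizer_iff.mp hqc) (θ ⟨(x : Ω), hPS x.2⟩) ⟨x, rfl⟩
    calc q * θ ⟨(x : Ω), hPS x.2⟩ * q⁻¹ = (θ ⟨(x : Ω), hPS x.2⟩ * q) * q⁻¹ := by rw [hc]
      _ = θ ⟨(x : Ω), hPS x.2⟩ := by group
  have hαB := hres hα x
  have hyS : (x : Ω)⁻¹ * (((α : MulAut P) x : P) : Ω) ∈ S :=
    S.mul_mem (S.inv_mem (hPS x.2)) (hPS ((α : MulAut P) x).2)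
  refine ⟨⟨_, hyS⟩, ?_, rfl⟩
  rw [SetLike.mem_coe, MonoidHom.mem_ker]
  have h1 : (⟨(x : Ω)⁻¹ * (((α : MulAut P) x : P) : Ω), hyS⟩ : S) =
      (⟨(x : Ω), hPS x.2⟩ : S)⁻¹ * ⟨(((α : MulAut P) x : P) : Ω), hPS ((α : MulAut P) x).2⟩ :=
    Subtype.ext rfl
  rw [h1, map_mul, map_inv, hαB, inv_mul_cancel]

/-! ### The application: conjugation on `T` modulo a normal subgroup of `Aut_F(T)` -/

/-- Conjugation by the elements of `S` on the strongly closed subgroup `T`, as a homomorphism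
`S →* Aut_F(T)`. -/
noncomputable def hfpConj [Finite S] (F : FusionSystem S) {T : Subgroup Ω} (hT : F.StronglyClosed T) :
    S →* ↥(F.autGroup T) :=
  ((conjAutHom T).comp (Subgroup.inclusion (Fusion.le_normalizer_of_stronglyClosed F hT))).codRestrict
    (F.autGroup T)
    (fun s => Fusion.autInducedBy_le_autGroup F hT.1
      (Fusion.conjAutHom_mem_autInducedBy T _ s.2))

@[simp] theorem hfpConj_apply [Finite S] (F : FusionSystem S) {T : Subgroup Ω}
    (hT : F.StronglyClosed T) (s : S) (x : T) :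
    ((((hfpConj F hT s : ↥(F.autGroup T)) : MulAut T) x : T) : Ω) = (s : Ω) * x * (s : Ω)⁻¹ := rfl

/-- `S₁ = {s ∈ S : c_s|T ∈ K}`. -/
noncomputable def hfpS1 [Finite S] (F : FusionSystem S) {T : Subgroup Ω} (hT : F.StronglyClosed T)
    (K : Subgroup ↥(F.autGroup T)) : Subgroup Ω :=
  (K.comap (hfpConj F hT)).map S.subtype

theorem mem_hfpS1 [Finite S] (F : FusionSystem S) {T : Subgroup Ω} (hT : F.StronglyClosed T)
    (K : Subgroup ↥(F.autGroup T)) (s : Ω) :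
    s ∈ hfpS1 F hT K ↔ ∃ hs : s ∈ S, hfpConj F hT ⟨s, hs⟩ ∈ K := by
  constructor
  · rintro ⟨s', hs', rfl⟩
    exact ⟨s'.2, hs'⟩
  · rintro ⟨hs, h⟩
    exact ⟨⟨s, hs⟩, h, rfl⟩

theorem hfpS1_le [Finite S] (F : FusionSystem S) {T : Subgroup Ω} (hT : F.StronglyClosed T)
    (K : Subgroup ↥(F.autGroup T)) : hfpS1 F hT K ≤ S := by
  rintro _ ⟨s, -, rfl⟩
  exact s.2

section app

variable [Finite S] (p : ℕ) [Fact p.Prime] (hS : IsPGroup p S)
  (F : FusionSystem S) (hF : F.IsSaturated p) {T : Subgroup Ω} (hT : F.StronglyClosed T)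
  (K : Subgroup ↥(F.autGroup T)) [hKn : K.Normal]
  (hInn : (Inn T).subgroupOf (F.autGroup T) ≤ K)

include hInn in
theorem hfp_theta_ker (t : S) (ht : (t : Ω) ∈ T) :
    ((QuotientGroup.mk' K).comp (hfpConj F hT)) t = 1 := by
  show (QuotientGroup.mk' K) (hfpConj F hT t) = 1
  rw [QuotientGroup.mk'_apply, QuotientGroup.eq_one_iff]
  apply hInn
  rw [Subgroup.mem_subgroupOf]
  refine ⟨⟨(t : Ω), ht⟩, ?_⟩
  ext x
  rfl

include hKn in
theorem hfp_theta_big (P : Subgroup Ω) (φ : P →* Ω) (hφ : φ ∈ F.Hom P) (hTP : T ≤ P) :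
    hfpCompat ((QuotientGroup.mk' K).comp (hfpConj F hT)) P φ := by
  have hTS := hT.1
  have : Finite T := Fusion.finite_of_le hTS
  have hφT := Fusion.restrict_mem F hφ hTP
  have hr := (Fusion.weaklyClosed_of_stronglyClosed F hT).2 _ hφT
  set b : MulAut T := Fusion.equivOfRange _ (F.injective_of_mem hφT) hr with hb
  have hbx : ∀ x : T, ((b x : T) : Ω) = φ ⟨(x : Ω), hTP x.2⟩ := fun x => rfl
  have hbA : b ∈ F.autGroup T := by
    rw [Fusion.mem_autGroup_iff F hTS]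
    have h0 : T.subtype.comp (MulEquiv.toMonoidHom b) = φ.comp (Subgroup.inclusion hTP) := by
      ext x
      rfl
    rw [h0]
    exact hφT
  refine ⟨QuotientGroup.mk' K ⟨b, hbA⟩, fun x hx hφx => ?_⟩
  show QuotientGroup.mk' K (hfpConj F hT ⟨φ x, hφx⟩) =
    QuotientGroup.mk' K ⟨b, hbA⟩ * QuotientGroup.mk' K (hfpConj F hT ⟨(x : Ω), hx⟩) *
      (QuotientGroup.mk' K ⟨b, hbA⟩)⁻¹
  rw [← map_inv, ← map_mul, ← map_mul]
  congr 1
  apply Subtype.ext
  ext t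
  show φ x * ((t : T) : Ω) * (φ x)⁻¹ = _
  have h1 : (((((⟨b, hbA⟩ : ↥(F.autGroup T)) * hfpConj F hT ⟨(x : Ω), hx⟩ *
      (⟨b, hbA⟩ : ↥(F.autGroup T))⁻¹ : ↥(F.autGroup T)) : MulAut T) t : T) : Ω) =
      ((b (((hfpConj F hT ⟨(x : Ω), hx⟩ : ↥(F.autGroup T)) : MulAut T) (b⁻¹ t)) : T) : Ω) := rfl
  rw [h1, hbx]
  have h2 : (⟨(((((hfpConj F hT ⟨(x : Ω), hx⟩ : ↥(F.autGroup T)) : MulAut T) (b⁻¹ t)) : T) : Ω),
      hTP (((hfpConj F hT ⟨(x : Ω), hx⟩ : ↥(F.autGroup T)) : MulAut T) (b⁻¹ t)).2⟩ : P) =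
      x * ⟨((b⁻¹ t : T) : Ω), hTP (b⁻¹ t).2⟩ * x⁻¹ := Subtype.ext rfl
  rw [h2, map_mul, map_mul, map_inv, ← hbx (b⁻¹ t), MulAut.apply_inv_self]

include hS hF hKn hInn in
/-- **Fusion preservation.**  For every map `φ : P → S` of `F` there is `b ∈ Aut_F(T)` with
`c_{φ x}|T ≡ b c_x|T b⁻¹` modulo `K` for all `x ∈ P`. -/
theorem hfp_fusion_preserving {P : Subgroup Ω} {φ : P →* Ω} (hφ : φ ∈ F.Hom P) :
    ∃ b : ↥(F.autGroup T), ∀ (x : P) (hx : (x : Ω) ∈ S) (hφx : φ x ∈ S),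
      (b * hfpConj F hT ⟨(x : Ω), hx⟩ * b⁻¹)⁻¹ * hfpConj F hT ⟨φ x, hφx⟩ ∈ K := by
  obtain ⟨q, hq⟩ := hfp_compat_all p hS F hF hT ((QuotientGroup.mk' K).comp (hfpConj F hT))
    (hfp_theta_ker F hT K hInn) (hfp_theta_big F hT K) hφ
  obtain ⟨b, rfl⟩ := QuotientGroup.mk'_surjective K q
  refine ⟨b, fun x hx hφx => ?_⟩
  have h := hq x hx hφx
  have h' : QuotientGroup.mk' K (hfpConj F hT ⟨φ x, hφx⟩) =
      QuotientGroup.mk' K (b * hfpConj F hT ⟨(x : Ω), hx⟩ * b⁻¹) := by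
    rw [map_mul, map_mul, map_inv]
    exact h
  rw [QuotientGroup.mk'_apply, QuotientGroup.mk'_apply] at h'
  exact QuotientGroup.eq.mp h'.symm

include hS hF hKn hInn in
/-- **The hyperfocal subgroup lies in `S₁`** when `Aut_F(T) / K` is a `p`-group. -/
theorem hfp_hyperfocal_le (hidx : IsPGroup p (↥(F.autGroup T) ⧸ K)) :
    F.hyperfocalSubgroup p ≤ hfpS1 F hT K := by
  have h := hfp_hyperfocal_le_ker p hS F hF hT hidx ((QuotientGroup.mk' K).comp (hfpConj F hT))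
    (hfp_theta_ker F hT K hInn) (hfp_theta_big F hT K)
  intro y hy
  obtain ⟨s, hs, rfl⟩ := h hy
  refine ⟨s, ?_, rfl⟩
  rw [SetLike.mem_coe, MonoidHom.mem_ker] at hs
  have hs' : QuotientGroup.mk' K (hfpConj F hT s) = 1 := hs
  rw [QuotientGroup.mk'_apply, QuotientGroup.eq_one_iff] at hs'
  exact hs'

include hS hF hKn hInn in
/-- Elementwise form: for `α ∈ Aut_F(P)` of order prime to `p` and `x ∈ P`, the element
`x⁻¹ α(x)` lies in `S₁`. -/
theorem hfp_comm_mem_S1 (hidx : IsPGroup p (↥(F.autGroup T) ⧸ K)) {P : Subgroup Ω} (hPS : P ≤ S)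
    (α : ↥(F.autGroup P)) (hα : (orderOf α).Coprime p) (x : P) :
    (x : Ω)⁻¹ * (((α : MulAut P) x : P) : Ω) ∈ hfpS1 F hT K :=
  hfp_hyperfocal_le p hS F hF hT K hInn hidx
    (Fusion.mem_hyperfocal F p hPS α (Subgroup.subset_closure hα) x)

end app

end Cfsg.Agent.HFP
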