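import Mathlib
import Cfsg.Prelude.Def_FusionSystem
import Cfsg.Agent.HFP.FusPres

set_option autoImplicit false

/-!
# Wrappers for `HFP/FusPres.lean` with `K` a subgroup of `Aut(T)` (helper8, for S5202)

`K : Subgroup (MulAut T)` with `K ≤ Aut_F(T)`, normalized by `Aut_F(T)`, containing `Aut_T(T)`;
`hfpSone S T K = {s ∈ S : c_s|T ∈ K}`.
-/

namespace Cfsg.Agent.HFP

open Cfsg Cfsg.FusionSystem Cfsg.Agent.Lead

variable {Ω : Type*} [Group Ω] {S : Subgroup Ω}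

/-- `S₁ = {s ∈ S : conjugation by s on T is (the restriction of) an element of K}`. -/
def hfpSone (S T : Subgroup Ω) (K : Subgroup (MulAut T)) : Subgroup Ω where
  carrier := {s | s ∈ S ∧ ∃ k ∈ K, ∀ t : T, ((k t : T) : Ω) = s * t * s⁻¹}
  one_mem' := ⟨S.one_mem, 1, K.one_mem, fun t => by simp⟩
  mul_mem' := by
    rintro a b ⟨ha, k, hk, hka⟩ ⟨hb, l, hl, hlb⟩
    refine ⟨S.mul_mem ha hb, k * l, K.mul_mem hk hl, fun t => ?_⟩
    rw [MulAut.mul_apply, hka, hlb]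
    group
  inv_mem' := by
    rintro a ⟨ha, k, hk, hka⟩
    refine ⟨S.inv_mem ha, k⁻¹, K.inv_mem hk, fun t => ?_⟩
    have h1 := hka (k⁻¹ t)
    rw [MulAut.apply_inv_self] at h1
    rw [h1]
    group

theorem mem_hfpSone (S T : Subgroup Ω) (K : Subgroup (MulAut T)) (s : Ω) :
    s ∈ hfpSone S T K ↔ s ∈ S ∧ ∃ k ∈ K, ∀ t : T, ((k t : T) : Ω) = s * t * s⁻¹ := Iff.rfl

theorem hfpSone_le (S T : Subgroup Ω) (K : Subgroup (MulAut T)) : hfpSone S T K ≤ S :=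
  fun _ hs => hs.1

section wrap

variable [Finite S] (p : ℕ) [Fact p.Prime] (hS : IsPGroup p S)
  (F : FusionSystem S) (hF : F.IsSaturated p) {T : Subgroup Ω} (hT : F.StronglyClosed T)
  (K : Subgroup (MulAut T))
  (hKn : ∀ a ∈ F.autGroup T, ∀ k ∈ K, a * k * a⁻¹ ∈ K)
  (hInn : autInducedBy T T ≤ K)

include hKn in
theorem hfp_subgroupOf_normal : (K.subgroupOf (F.autGroup T)).Normal := by
  constructor
  intro k hk a
  rw [Subgroup.mem_subgroupOf] at hk ⊢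
  exact hKn a.1 a.2 k.1 hk

include hInn in
theorem hfp_inn_le : (Inn T).subgroupOf (F.autGroup T) ≤ K.subgroupOf (F.autGroup T) := by
  intro a ha
  rw [Subgroup.mem_subgroupOf] at ha ⊢
  exact hInn (Fusion.inn_le_autInducedBy (le_refl T) ha)

theorem hfpSone_eq : hfpSone S T K = hfpS1 F hT (K.subgroupOf (F.autGroup T)) := by
  ext s
  rw [mem_hfpSone, mem_hfpS1]
  constructor
  · rintro ⟨hs, k, hk, hks⟩
    refine ⟨hs, ?_⟩
    rw [Subgroup.mem_subgroupOf]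
    have : ((hfpConj F hT ⟨s, hs⟩ : ↥(F.autGroup T)) : MulAut T) = k := by
      ext t
      rw [hks t]
      rfl
    rw [this]
    exact hk
  · rintro ⟨hs, h⟩
    rw [Subgroup.mem_subgroupOf] at h
    exact ⟨hs, _, h, fun t => rfl⟩

include hS hF hT hKn hInn in
/-- Fusion preservation, in terms of arbitrary automorphisms of `T` inducing the conjugations. -/
theorem hfpK_fusion_preserving {P : Subgroup Ω} {φ : P →* Ω} (hφ : φ ∈ F.Hom P) :
    ∃ b ∈ F.autGroup T, ∀ (x : P) (c c' : MulAut T),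
      (∀ t : T, ((c t : T) : Ω) = (x : Ω) * t * (x : Ω)⁻¹) →
      (∀ t : T, ((c' t : T) : Ω) = φ x * t * (φ x)⁻¹) →
      (b * c * b⁻¹)⁻¹ * c' ∈ K := by
  have := hfp_subgroupOf_normal F K hKn
  obtain ⟨b, hb⟩ := hfp_fusion_preserving p hS F hF hT (K.subgroupOf (F.autGroup T))
    (hfp_inn_le F K hInn) hφ
  refine ⟨b.1, b.2, fun x c c' hc hc' => ?_⟩
  have hx : (x : Ω) ∈ S := (F.le_of_mem hφ).1 x.2
  have hφx : φ x ∈ S := (F.le_of_mem hφ).2 x
  have h := hb x hx hφx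
  rw [Subgroup.mem_subgroupOf] at h
  have e1 : ((hfpConj F hT ⟨(x : Ω), hx⟩ : ↥(F.autGroup T)) : MulAut T) = c := by
    ext t
    rw [hc t]
    rfl
  have e2 : ((hfpConj F hT ⟨φ x, hφx⟩ : ↥(F.autGroup T)) : MulAut T) = c' := by
    ext t
    rw [hc' t]
    rfl
  have e3 : (((b * hfpConj F hT ⟨(x : Ω), hx⟩ * b⁻¹)⁻¹ * hfpConj F hT ⟨φ x, hφx⟩ :
      ↥(F.autGroup T)) : MulAut T) = (b.1 * c * b.1⁻¹)⁻¹ * c' := by
    rw [← e1, ← e2]
    rfl
  rw [e3] at h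
  exact h

include hS hF hT hKn hInn in
/-- `S₁` is strongly closed in `F`. -/
theorem hfpK_Sone_stronglyClosed : F.StronglyClosed (hfpSone S T K) := by
  have hTn := Fusion.le_normalizer_of_stronglyClosed F hT
  refine ⟨hfpSone_le S T K, fun R hR φ hφ x => ?_⟩
  obtain ⟨b, hbA, hb⟩ := hfpK_fusion_preserving p hS F hF hT K hKn hInn hφ
  obtain ⟨hxS, k, hk, hkx⟩ := hR x.2
  have hφx : φ x ∈ S := (F.le_of_mem hφ).2 x
  have h := hb x k (conjAutHom T ⟨φ x, hTn hφx⟩) hkx (fun t => rfl)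
  refine ⟨hφx, conjAutHom T ⟨φ x, hTn hφx⟩, ?_, fun t => rfl⟩
  have h2 : b * k * b⁻¹ ∈ K := hKn b hbA k hk
  have h3 := K.mul_mem h2 h
  rwa [mul_inv_cancel_left] at h3

include hS hF hT hKn hInn in
/-- The hyperfocal subgroup lies in `S₁` when every element of `Aut_F(T)` has a `p`-power power
in `K`. -/
theorem hfpK_hyperfocal_le (hp : ∀ a ∈ F.autGroup T, ∃ n : ℕ, a ^ (p ^ n) ∈ K) :
    F.hyperfocalSubgroup p ≤ hfpSone S T K := by
  have := hfp_subgroupOf_normal F K hKn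
  rw [hfpSone_eq F hT K]
  apply hfp_hyperfocal_le p hS F hF hT (K.subgroupOf (F.autGroup T)) (hfp_inn_le F K hInn)
  intro g
  obtain ⟨a, rfl⟩ := QuotientGroup.mk_surjective g
  obtain ⟨n, hn⟩ := hp a.1 a.2
  refine ⟨n, ?_⟩
  rw [← QuotientGroup.mk_pow, QuotientGroup.eq_one_iff, Subgroup.mem_subgroupOf]
  exact hn

include hS hF hT hKn hInn in
/-- Elementwise form. -/
theorem hfpK_comm_mem_Sone (hp : ∀ a ∈ F.autGroup T, ∃ n : ℕ, a ^ (p ^ n) ∈ K)
    {P : Subgroup Ω} (hPS : P ≤ S) (α : MulAut P) (hα : α ∈ F.autGroup P)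
    (hord : (orderOf α).Coprime p) (x : P) :
    (x : Ω)⁻¹ * ((α x : P) : Ω) ∈ hfpSone S T K := by
  apply hfpK_hyperfocal_le p hS F hF hT K hKn hInn hp
  refine Fusion.mem_hyperfocal F p hPS ⟨α, hα⟩ (Subgroup.subset_closure ?_) x
  show (orderOf (⟨α, hα⟩ : ↥(F.autGroup P))).Coprime p
  rw [Subgroup.orderOf_mk]
  exact hord

end wrap

end Cfsg.Agent.HFP
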